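import Groth.Prelude.Def_HTop3
import Groth.Agent.Lib.Ideal.EffCartier
import Mathlib.AlgebraicGeometry.Morphisms.ClosedImmersion

/-!
Almost blow up squares through the universal property of the total morphism.
-/

universe u

open CategoryTheory CategoryTheory.Limits AlgebraicGeometry HTop TopologicalSpace
open Groth.Agent.Lib.Ideal

namespace Groth.Agent.Lib.AlmostBlowUp.Basic

variable {X X' W : Scheme.{u}}

theorem mem_awayFrom {𝓘 : X.IdealSheafData} {x : X} : x ∈ awayFrom 𝓘 ↔ x ∉ 𝓘.support := Iff.rfl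

/-- A morphism under which a locally closed subscheme becomes a Cartier divisor kills the sections supported on it. -/
theorem supportedOn_le_ker (t : W ⟶ X) (𝓘 : X.IdealSheafData)
    (hC : BlowUp.IsEffCartierIdeal (𝓘.comap t)) : supportedOn 𝓘 ≤ t.ker := by
  refine Scheme.IdealSheafData.le_ofIdeals_iff.mpr fun U s hs => ?_
  have hs0 : (awayFrom 𝓘).ι.app U.1 s = 0 := (awayFrom 𝓘).ι.ideal_ker_le U hs
  refine EffCartier.eq_zero_of_germ_eq_zero_off hC _ fun x hx hxs => ?_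
  have hy : t x ∈ awayFrom 𝓘 := by
    rw [Scheme.IdealSheafData.support_comap] at hxs
    exact hxs
  rw [← Scheme.Hom.germ_stalkMap_apply]
  suffices h : X.presheaf.germ U.1 (t x) hx s = 0 by rw [h, map_zero]
  have h1 := congrArg ((awayFrom 𝓘 : Scheme.{u}).presheaf.germ _ ⟨t x, hy⟩ hx) hs0
  rw [map_zero, ← Scheme.Hom.germ_stalkMap_apply] at h1
  exact (map_eq_zero_iff _
    (ConcreteCategory.bijective_of_isIso ((awayFrom 𝓘).ι.stalkMap ⟨t x, hy⟩)).1).mp h1

theorem awayFrom_inter {𝓘 : X.IdealSheafData} {U : X.affineOpens} {f : Γ(X, U.1)}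
    (hf : 𝓘.ideal U = Ideal.span {f}) :
    U.1 ⊓ awayFrom 𝓘 = X.basicOpen f := by
  ext x
  have h := congrArg (x ∈ ·) (𝓘.coe_support_inter U)
  simp only [hf, Scheme.zeroLocus_span, Scheme.zeroLocus_singleton] at h
  constructor
  · rintro ⟨hxU, hxa⟩
    by_contra hn
    exact hxa (h.mpr ⟨hn, hxU⟩).1
  · intro hx
    refine ⟨X.basicOpen_le f hx, fun hxs => ?_⟩
    exact (h.mp ⟨hxs, X.basicOpen_le f hx⟩).1 hx

theorem isAffineHom_awayFrom_ι {𝓘 : X.IdealSheafData} (h : IsLocPrincipal 𝓘) :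
    IsAffineHom (awayFrom 𝓘).ι := by
  refine isAffineHom_of_forall_exists_isAffineOpen _ fun x => ?_
  obtain ⟨U, hxU, f, hf⟩ := h x
  refine ⟨U.1, hxU, U.2, ?_⟩
  rw [← (awayFrom 𝓘).ι.isAffineOpen_iff_of_isOpenImmersion, Scheme.Hom.image_preimage_eq_opensRange_inf,
    Scheme.Opens.opensRange_ι, inf_comm, awayFrom_inter hf]
  exact U.2.basicOpen f

/-- The inverse image of a locally principal ideal on the subscheme cut out by the sections supported on it
is effective Cartier. -/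
theorem isEffCartier_supportedOn {𝓘 : X.IdealSheafData} (h : IsLocPrincipal 𝓘) :
    BlowUp.IsEffCartierIdeal (𝓘.comap (supportedOn 𝓘).subschemeι) := by
  have := isAffineHom_awayFrom_ι h
  intro x
  obtain ⟨U, hxU, f, hf⟩ := h ((supportedOn 𝓘).subschemeι x)
  let ι' := (supportedOn 𝓘).subschemeι
  let V : (supportedOn 𝓘).subscheme.affineOpens := ⟨ι' ⁻¹ᵁ U.1, U.2.preimage ι'⟩
  refine ⟨V, hxU, ι'.app U.1 f, ?_, ?_⟩
  · refine EffCartier.mem_nonZeroDivisors_of_eq_zero fun b hb => ?_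
    obtain ⟨s, rfl⟩ := (supportedOn 𝓘).subschemeι_app_surjective U b
    rw [← map_mul] at hb
    have hfs : f * s ∈ RingHom.ker ((awayFrom 𝓘).ι.app U.1).hom := by
      rw [← Scheme.Hom.ker_apply]
      show f * s ∈ (supportedOn 𝓘).ideal U
      rw [← (supportedOn 𝓘).ker_subschemeι_app U]
      exact hb
    have hu : IsUnit ((awayFrom 𝓘).ι.app U.1 f) := by
      refine RingedSpace.isUnit_of_isUnit_germ (awayFrom 𝓘 : Scheme.{u}).toRingedSpace _ _
        fun y hy => ?_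
      refine (Scheme.mem_basicOpen _ _ y hy).mp ?_
      rw [← Scheme.preimage_basicOpen, ← awayFrom_inter hf]
      exact ⟨hy, y.2⟩
    have hs : s ∈ RingHom.ker ((awayFrom 𝓘).ι.app U.1).hom := by
      rw [RingHom.mem_ker, map_mul] at hfs
      exact hu.mul_right_eq_zero.mp hfs
    rw [← Scheme.Hom.ker_apply] at hs
    have hs' : s ∈ (supportedOn 𝓘).ideal U := hs
    rw [← (supportedOn 𝓘).ker_subschemeι_app U] at hs'
    exact hs'
  · rw [Comap.ideal_comap ι' 𝓘 U V le_rfl, hf, Ideal.map_span, Set.image_singleton,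
      ← Scheme.Hom.app_eq_appLE]

theorem isLocPrincipal_comap (t : W ⟶ X) {𝓘 : X.IdealSheafData} (h : IsLocPrincipal 𝓘) :
    IsLocPrincipal (𝓘.comap t) := by
  intro x
  obtain ⟨U, hxU, f, hf⟩ := h (t x)
  obtain ⟨V, hV, hxV, hle⟩ := exists_isAffineOpen_mem_and_subset (show x ∈ t ⁻¹ᵁ U.1 from hxU)
  refine ⟨⟨V, hV⟩, hxV, t.appLE U.1 V hle f, ?_⟩
  rw [Comap.ideal_comap t 𝓘 U ⟨V, hV⟩ hle, hf, Ideal.map_span, Set.image_singleton]

/-- Every morphism making the centre a Cartier divisor lifts uniquely through `b`. -/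
def UnivLift (b : X' ⟶ X) (𝓘 : X.IdealSheafData) : Prop :=
  ∀ (Y : Scheme.{u}) (g : Y ⟶ X), BlowUp.IsEffCartierIdeal (𝓘.comap g) → ∃! h : Y ⟶ X', h ≫ b = g

theorem supportedOn_le_ker_of_comp (b : X' ⟶ X) (𝓘 : X.IdealSheafData) {h : W ⟶ X'} {g : W ⟶ X}
    (w : h ≫ b = g) (hg : BlowUp.IsEffCartierIdeal (𝓘.comap g)) :
    supportedOn (𝓘.comap b) ≤ h.ker := by
  refine supportedOn_le_ker h _ ?_
  rwa [← Scheme.IdealSheafData.comap_comp, w]

theorem isBlowUp_supportedOn_iff {b : X' ⟶ X} {𝓘 : X.IdealSheafData}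
    (hp : IsLocPrincipal (𝓘.comap b)) :
    BlowUp.IsBlowUp ((supportedOn (𝓘.comap b)).subschemeι ≫ b) 𝓘 ↔ UnivLift b 𝓘 := by
  let ι' := (supportedOn (𝓘.comap b)).subschemeι
  constructor
  · intro hB Y g hg
    obtain ⟨k, hk, huniq⟩ := hB.2 Y g hg
    refine ⟨k ≫ ι', (Category.assoc _ _ _).trans hk, fun h hh => ?_⟩
    have hker : ι'.ker ≤ h.ker := by
      rw [Scheme.IdealSheafData.ker_subschemeι]
      exact supportedOn_le_ker_of_comp b 𝓘 hh hg
    rw [← IsClosedImmersion.lift_fac ι' h hker]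
    exact congrArg (· ≫ ι') (huniq _ ((IsClosedImmersion.lift_fac_assoc ι' h hker b).trans hh))
  · intro hU
    refine ⟨?_, fun Y g hg => ?_⟩
    · rw [Scheme.IdealSheafData.comap_comp]
      exact isEffCartier_supportedOn hp
    · obtain ⟨h, hh, huniq⟩ := hU Y g hg
      have hker : ι'.ker ≤ h.ker := by
        rw [Scheme.IdealSheafData.ker_subschemeι]
        exact supportedOn_le_ker_of_comp b 𝓘 hh hg
      refine ⟨IsClosedImmersion.lift ι' h hker,
        (IsClosedImmersion.lift_fac_assoc ι' h hker b).trans hh, fun k hk => ?_⟩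
      rw [← cancel_mono ι', IsClosedImmersion.lift_fac]
      exact huniq (k ≫ ι') ((Category.assoc _ _ _).trans hk)

theorem ker_of_isPullback {Z Z₁ Y : Scheme.{u}} {gZ : Z₁ ⟶ Z} {i₁ : Z₁ ⟶ Y} {i : Z ⟶ X} {g : Y ⟶ X}
    [IsClosedImmersion i] (hZ : IsPullback gZ i₁ i g) : i₁.ker = i.ker.comap g := by
  rw [← hZ.flip.isoPullback_hom_fst, Scheme.Hom.ker_comp_of_isIso,
    Scheme.IdealSheafData.ker_fst_of_isClosedImmersion]

end Groth.Agent.Lib.AlmostBlowUp.Basic
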